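import Cfsg.Agent.Lib.CosetCert.D.Ru.Tbl
import Cfsg.Agent.Lib.CosetCert.D.Ru.Lv2.CT

namespace Cfsg.Agent.Lib.CosetCert.D.Ru.Lv2.Tab

open Cfsg.Agent.Lib.CosetCert Cfsg.Agent.Lib.TC.Core Cfsg.Agent.Lib.TC.Enc Cfsg.Agent.Lib.TC.Pres Cfsg.Agent.Lib.TC.Perm Cfsg.Agent.Lib.TC.Main

set_option maxRecDepth 100000

open Cfsg.Agent.Lib.CosetCert.D.Ru.Tbl

/-- The chunks. -/
noncomputable def ctree : Tr Nat := Cfsg.Agent.Lib.CosetCert.D.Ru.Lv2.CT.tree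

/-- The relator rotations. -/
noncomputable def rotT : Tr (List Nat) := (Tr.node (Tr.node (Tr.node (Tr.node (Tr.node (Tr.node (Tr.node (Tr.node (Tr.node (Tr.leaf []) (Tr.leaf [1,0,1,2,2,3,1,3,1,2,0,2])) (Tr.node (Tr.leaf [1,4,1,2,1,2,2,1,4,4]) (Tr.leaf []))) (Tr.node (Tr.node (Tr.leaf [3,4,3,2,3,4,3,2]) (Tr.leaf [1,4,1,4,1,3,3,1,4,1,3,3,2])) (Tr.node (Tr.leaf [1,4,1,2,1,2,2,1,2,0,0,2]) (Tr.leaf [])))) (Tr.node (Tr.node (Tr.node (Tr.leaf [0,4,4,4,4,0]) (Tr.leaf [0,2,1,0,1,4,4,0,1,3,1,2])) (Tr.node (Tr.leaf [1,0,1,0,0,1,3,1,2,2,2,2]) (Tr.leaf []))) (Tr.node (Tr.node (Tr.leaf [2,2,0,4,0,4,4,0,2,0]) (Tr.leaf [0,3])) (Tr.node (Tr.leaf [3,2,3,2,1,0,1,4,4,1,3,1]) (Tr.leaf []))))) (Tr.node (Tr.node (Tr.node (Tr.node (Tr.leaf [0,2,2,2,2,0]) (Tr.leaf [1,0,1,3,4,4,1,3,1,4,0,4]))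 (Tr.node (Tr.leaf [2,2,2,2,1,3,1,0,0,1,0,1]) (Tr.leaf []))) (Tr.node (Tr.node (Tr.leaf [3,4,0,2,3,4,0,2]) (Tr.leaf [1,4,1,4,1,3,3,1,4,1,4,4,4])) (Tr.node (Tr.leaf [0,1,2,2,1,3,1,4,0,4,0,1]) (Tr.leaf [])))) (Tr.node (Tr.node (Tr.node (Tr.leaf [0,2,0,2,3,2,0,2]) (Tr.leaf [3,2,1,3,2,1,3,2,1,3,2,1])) (Tr.node (Tr.leaf [1,4,1,2,1,3,3,4,4,1,4,4]) (Tr.leaf []))) (Tr.node (Tr.node (Tr.leaf [2,0,2,3,4,4,3,4,0,2]) (Tr.leaf [])) (Tr.node (Tr.leaf [1,4,0,4,1,0,1,0,2,2,1,3]) (Tr.leaf [])))))) (Tr.node (Tr.node (Tr.node (Tr.node (Tr.node (Tr.leaf [4,0,0,2,0,0]) (Tr.leaf [1,4,1,0,1,2,1,4,1,3,1,2])) (Tr.node (Tr.leaf [1,2,0,0,4,1,3,1,0,0,1,0]) (Tr.leaf []))) (Tr.node (Tr.node (Tr.leaf [2,3,4,0,2,0,4,3]) (Tr.leaf [0,4,1,2,1,0,0,1,2,1,2,1,0])) (Tr.node (Tr.leaf [3,2,3,3,4,1,0,1,3,1,3,1])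 (Tr.leaf [])))) (Tr.node (Tr.node (Tr.node (Tr.leaf [0,1,3,1,3,1,0,1]) (Tr.leaf [1,4,0,1,4,0,1,4,0,1,4,0])) (Tr.node (Tr.leaf [1,2,2,1,2,2,0,0,1,4,1,2]) (Tr.leaf []))) (Tr.node (Tr.node (Tr.leaf [2,2,0,2,0,2,2,3,4,0]) (Tr.leaf [])) (Tr.node (Tr.leaf [0,2,1,0,1,2,2,1,3,1,3,2]) (Tr.leaf []))))) (Tr.node (Tr.node (Tr.node (Tr.node (Tr.leaf [4,3,3,4,4,4]) (Tr.leaf [3,1,0,1,4,4,1,3,1,4,0,4])) (Tr.node (Tr.leaf [2,1,3,1,3,3,1,0,1,4,3,3]) (Tr.leaf []))) (Tr.node (Tr.node (Tr.leaf [1,3,1,0,0,1,0,1,0,0]) (Tr.leaf [1,4,1,3,3,2,1,4,1,4,1,0,0])) (Tr.node (Tr.leaf [2,3,2,1,0,1,4,4,1,3,1,3]) (Tr.leaf [])))) (Tr.node (Tr.node (Tr.node (Tr.leaf [4,3,4,3,4,0,4,3]) (Tr.leaf [4,4,0,2,2,0,4,4,3,2,2,3])) (Tr.node (Tr.leaf [4,1,2,1,2,2,1,3,3,2,2,1]) (Tr.leaf []))) (Tr.node (Tr.node (Tr.leaf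 [1,2,1,2,2,1,4,4,1,4]) (Tr.leaf [])) (Tr.node (Tr.leaf [4,3,1,3,1,2,3,2,1,0,1,4]) (Tr.leaf []))))))) (Tr.node (Tr.node (Tr.node (Tr.node (Tr.node (Tr.node (Tr.leaf [0,2,0,0,4,0]) (Tr.leaf [1,4,1,3,1,2,1,4,1,0,1,2])) (Tr.node (Tr.leaf [0,0,1,0,0,1,3,3,1,0,0,1]) (Tr.leaf []))) (Tr.node (Tr.node (Tr.leaf [3,2,3,4,3,2,3,4]) (Tr.leaf [1,4,1,3,3,2,1,4,1,4,1,3,3])) (Tr.node (Tr.leaf [4,1,2,1,4,4,3,3,1,4,4,1]) (Tr.leaf [])))) (Tr.node (Tr.node (Tr.node (Tr.leaf [2,3,3,2,2,2]) (Tr.leaf [1,4,0,1,4,0,1,4,0,1,4,0])) (Tr.node (Tr.leaf [1,0,1,0,0,1,3,1,4,0,0,2]) (Tr.leaf []))) (Tr.node (Tr.node (Tr.leaf [4,4,0,2,0,2,2,0,4,0]) (Tr.leaf [4,2])) (Tr.node (Tr.leaf [1,3,1,4,3,4,0,1,0,1,4,4]) (Tr.leaf []))))) (Tr.node (Tr.node (Tr.node (Tr.node (Tr.leaf [2,0,0,2,2,2]) (Tr.leaf [0,2,3,2,1,0,1,2,2,1,3,1]))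 (Tr.node (Tr.leaf [1,4,0,0,2,1,3,1,0,0,1,0]) (Tr.leaf []))) (Tr.node (Tr.node (Tr.leaf [1,0,1,0,0,1,3,1,0,0]) (Tr.leaf [0,1,4,1,4,1,3,3,1,4,1,2,0])) (Tr.node (Tr.leaf [3,1,4,0,4,0,1,0,1,2,2,1]) (Tr.leaf [])))) (Tr.node (Tr.node (Tr.node (Tr.leaf [3,2,0,2,0,2,0,2]) (Tr.leaf [0,4,4,3,4,4,3,4,4,3,2,2])) (Tr.node (Tr.leaf [4,4,0,0,1,4,4,1,4,1,2,1]) (Tr.leaf []))) (Tr.node (Tr.node (Tr.leaf [0,2,2,3,2,3,2,2,3,4]) (Tr.leaf [])) (Tr.node (Tr.leaf [1,2,3,2,1,0,1,4,4,3,1,3]) (Tr.leaf [])))))) (Tr.node (Tr.node (Tr.node (Tr.node (Tr.node (Tr.leaf [4,3,3,2,3,3]) (Tr.leaf [1,4,1,0,1,2,1,4,1,3,1,2])) (Tr.node (Tr.leaf [1,0,1,2,3,3,4,1,3,1,3,3]) (Tr.leaf []))) (Tr.node (Tr.node (Tr.leaf [2,3,4,3,2,0,4,0]) (Tr.leaf [3,1,4,1,4,1,3,3,1,4,1,2,3])) (Tr.node (Tr.leaf [4,4,1,0,1,3,1,3,1,3,4,4])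 (Tr.leaf [])))) (Tr.node (Tr.node (Tr.node (Tr.leaf [3,1,0,1,0,1,3,1]) (Tr.leaf [3,2,1,3,2,1,3,2,1,3,2,1])) (Tr.node (Tr.leaf [4,4,1,4,4,1,4,1,2,1,3,3]) (Tr.leaf []))) (Tr.node (Tr.node (Tr.leaf [2,0,4,4,0,4,0,2,2,0]) (Tr.leaf [])) (Tr.node (Tr.leaf [3,2,0,2,1,0,1,2,2,1,3,1]) (Tr.leaf []))))) (Tr.node (Tr.node (Tr.node (Tr.node (Tr.leaf [2,0,0,4,3,3]) (Tr.leaf [3,1,0,1,2,2,1,3,1,4,3,4])) (Tr.node (Tr.leaf [2,0,0,4,1,0,1,0,0,1,3,1]) (Tr.leaf []))) (Tr.node (Tr.node (Tr.leaf [1,3,1,3,3,1,0,1,3,3]) (Tr.leaf [1,2,1,0,0,1,2,2,1,2,2,1,2])) (Tr.node (Tr.leaf [1,4,4,1,3,1,3,2,3,2,1,0]) (Tr.leaf [])))) (Tr.node (Tr.node (Tr.node (Tr.leaf [4,0,2,0,4,0,2,0]) (Tr.leaf [1,2,1,2,1,4,0,0,1,2,1,0,0])) (Tr.node (Tr.leaf [3,3,2,1,0,1,3,1,3,1,3,4]) (Tr.leaf []))) (Tr.node (Tr.node (Tr.leaf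 [2,1,4,4,1,4,1,2,1,2]) (Tr.leaf [])) (Tr.node (Tr.leaf [3,4,1,0,1,0,4,4,1,3,1,4]) (Tr.leaf [])))))))) (Tr.node (Tr.node (Tr.node (Tr.node (Tr.node (Tr.node (Tr.node (Tr.leaf [3,3,3,3]) (Tr.leaf [0,1,2,1,4,1,3,1,2,1,4,1])) (Tr.node (Tr.leaf [4,4,1,4,1,2,1,2,2,1]) (Tr.leaf []))) (Tr.node (Tr.node (Tr.leaf [3,2,3,4,3,2,3,4]) (Tr.leaf [1,4,1,3,3,1,4,1,3,3,2,1,4])) (Tr.node (Tr.leaf [0,2,2,1,4,1,2,1,2,2,1,0]) (Tr.leaf [])))) (Tr.node (Tr.node (Tr.node (Tr.leaf [4,0,0,4,4,4]) (Tr.leaf [3,4,1,0,1,3,2,2,1,3,1,4])) (Tr.node (Tr.leaf [1,3,1,4,0,0,2,1,0,1,0,0]) (Tr.leaf []))) (Tr.node (Tr.node (Tr.leaf [0,4,0,4,4,0,2,0,2,2]) (Tr.leaf [2,4])) (Tr.node (Tr.leaf [1,0,1,4,4,1,3,1,4,3,4,0]) (Tr.leaf []))))) (Tr.node (Tr.node (Tr.node (Tr.node (Tr.leaf [2,2,2,0,0,2]) (Tr.leaf [1,3,1,4,0,4,1,0,1,3,4,4]))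 (Tr.node (Tr.leaf [1,0,0,1,0,1,2,2,2,2,1,3]) (Tr.leaf []))) (Tr.node (Tr.node (Tr.leaf [0,0,1,0,1,0,0,1,3,1]) (Tr.leaf [3,4,1,2,1,0,0,1,2,1,2,1,3])) (Tr.node (Tr.leaf [2,2,1,3,1,4,0,4,0,1,0,1]) (Tr.leaf [])))) (Tr.node (Tr.node (Tr.node (Tr.leaf [0,2,3,2,0,2,0,2]) (Tr.leaf [0,2,2,0,2,2,0,2,2,3,4,4])) (Tr.node (Tr.leaf [1,4,4,1,4,1,2,1,4,4,0,0]) (Tr.leaf []))) (Tr.node (Tr.node (Tr.leaf [3,2,3,4,4,3,4,0,4,4]) (Tr.leaf [])) (Tr.node (Tr.leaf [0,4,1,0,1,0,2,2,1,3,1,4]) (Tr.leaf [])))))) (Tr.node (Tr.node (Tr.node (Tr.node (Tr.node (Tr.leaf [3,3,4,3,3,2]) (Tr.leaf [1,0,1,2,1,4,1,3,1,2,1,4])) (Tr.node (Tr.leaf [4,1,3,1,0,0,1,0,1,2,0,0]) (Tr.leaf []))) (Tr.node (Tr.node (Tr.leaf [0,4,0,2,3,4,3,2]) (Tr.leaf [1,2,1,0,0,1,2,1,2,1,0,0,4])) (Tr.node (Tr.leaf [3,2,3,3,4,1,3,1,3,1,0,1])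 (Tr.leaf [])))) (Tr.node (Tr.node (Tr.node (Tr.leaf [3,1,3,1,0,1,0,1]) (Tr.leaf [4,0,1,4,0,1,4,0,1,4,0,1])) (Tr.node (Tr.leaf [2,2,0,0,1,4,1,2,1,2,2,1]) (Tr.leaf []))) (Tr.node (Tr.node (Tr.leaf [0,2,0,2,2,3,4,3,4,4]) (Tr.leaf [])) (Tr.node (Tr.leaf [0,1,2,2,1,3,1,3,2,0,2,1]) (Tr.leaf []))))) (Tr.node (Tr.node (Tr.node (Tr.node (Tr.leaf [2,3,3,4,0,0]) (Tr.leaf [4,3,4,3,1,0,1,2,2,1,3,1])) (Tr.node (Tr.leaf [0,0,1,3,1,2,0,0,4,1,0,1]) (Tr.leaf []))) (Tr.node (Tr.node (Tr.leaf [1,0,1,3,3,1,3,1,3,3]) (Tr.leaf [1,2,1,2,1,0,0,1,2,2,1,2,2])) (Tr.node (Tr.leaf [2,1,0,1,4,4,1,3,1,3,2,3]) (Tr.leaf [])))) (Tr.node (Tr.node (Tr.node (Tr.leaf [2,0,4,0,2,0,4,0]) (Tr.leaf [1,0,0,1,2,1,2,1,4,0,0,1,2])) (Tr.node (Tr.leaf [1,0,1,0,1,3,1,4,0,0,2,0]) (Tr.leaf []))) (Tr.node (Tr.node (Tr.leaf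 [1,2,2,1,4,4,1,4,1,2]) (Tr.leaf [])) (Tr.node (Tr.leaf [1,0,4,4,1,3,1,4,3,4,1,0]) (Tr.leaf []))))))) (Tr.node (Tr.node (Tr.node (Tr.node (Tr.node (Tr.node (Tr.leaf [0,0,4,0,0,2]) (Tr.leaf [1,3,1,2,1,4,1,0,1,2,1,4])) (Tr.node (Tr.leaf [3,3,1,0,0,1,0,0,1,0,0,1]) (Tr.leaf []))) (Tr.node (Tr.node (Tr.leaf [0,4,3,2,3,4,0,2]) (Tr.leaf [1,3,3,2,1,4,1,4,1,3,3,1,4])) (Tr.node (Tr.leaf [1,0,1,3,1,3,1,3,2,3,3,4]) (Tr.leaf [])))) (Tr.node (Tr.node (Tr.node (Tr.leaf [0,1,0,1,3,1,3,1]) (Tr.leaf [0,1,4,0,1,4,0,1,4,0,1,4])) (Tr.node (Tr.leaf [1,4,1,2,1,2,2,1,2,2,0,0]) (Tr.leaf []))) (Tr.node (Tr.node (Tr.leaf [4,3,4,3,2,2,3,2,3,4]) (Tr.leaf [])) (Tr.node (Tr.leaf [4,0,1,0,1,4,4,1,3,1,4,3]) (Tr.leaf []))))) (Tr.node (Tr.node (Tr.node (Tr.node (Tr.leaf [4,4,4,3,3,4]) (Tr.leaf [3,2,1,0,1,2,2,1,3,1,0,2]))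 (Tr.node (Tr.leaf [2,1,3,1,0,0,1,0,1,4,0,0]) (Tr.leaf []))) (Tr.node (Tr.node (Tr.leaf [0,0,1,3,1,0,0,1,0,1]) (Tr.leaf [1,0,0,2,1,4,1,4,1,3,3,1,4])) (Tr.node (Tr.leaf [4,0,4,0,1,0,1,2,2,1,3,1]) (Tr.leaf [])))) (Tr.node (Tr.node (Tr.node (Tr.leaf [4,3,4,3,4,3,4,0]) (Tr.leaf [4,0,4,4,3,4,4,0,2,2,0,4])) (Tr.node (Tr.leaf [2,1,4,1,2,1,2,2,1,3,3,2]) (Tr.leaf []))) (Tr.node (Tr.node (Tr.leaf [0,4,0,4,4,0,2,3,4,4]) (Tr.leaf [])) (Tr.node (Tr.leaf [1,0,1,4,4,3,1,3,1,2,3,2]) (Tr.leaf [])))))) (Tr.node (Tr.node (Tr.node (Tr.node (Tr.node (Tr.leaf [3,2,3,3,4,3]) (Tr.leaf [2,3,2,1,0,1,2,2,0,1,3,1])) (Tr.node (Tr.leaf [0,1,2,2,2,2,1,3,1,0,0,1]) (Tr.leaf []))) (Tr.node (Tr.node (Tr.leaf [3,2,3,2,0,2,3,2]) (Tr.leaf [4,1,4,1,3,3,1,4,1,2,3,3,1])) (Tr.node (Tr.leaf [0,1,0,1,2,2,1,3,1,4,0,4])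 (Tr.leaf [])))) (Tr.node (Tr.node (Tr.node (Tr.leaf [0,2,0,2,0,2,3,2]) (Tr.leaf [3,2,1,3,2,1,3,2,1,3,2,1])) (Tr.node (Tr.leaf [1,4,4,1,4,1,2,1,3,3,4,4]) (Tr.leaf []))) (Tr.node (Tr.node (Tr.leaf [2,2,0,2,0,4,4,0,4,0]) (Tr.leaf [])) (Tr.node (Tr.leaf [0,2,2,1,3,1,4,0,4,1,0,1]) (Tr.leaf []))))) (Tr.node (Tr.node (Tr.node (Tr.node (Tr.leaf [4,3,3,2,0,0]) (Tr.leaf [4,1,3,1,0,2,0,2,1,0,1,4])) (Tr.node (Tr.leaf [1,3,1,2,2,2,2,1,0,1,0,0]) (Tr.leaf []))) (Tr.node (Tr.node (Tr.leaf [3,1,0,0,1,0,1,3,3,1]) (Tr.leaf [1,4,4,1,4,4,1,3,3,1,4,1,4])) (Tr.node (Tr.leaf [1,3,1,3,2,3,2,1,0,1,4,4]) (Tr.leaf [])))) (Tr.node (Tr.node (Tr.node (Tr.leaf [0,4,0,2,0,4,0,2]) (Tr.leaf [2,1,4,0,0,1,2,1,0,0,1,2,1])) (Tr.node (Tr.leaf [0,2,1,0,1,3,1,3,1,3,4,0]) (Tr.leaf []))) (Tr.node (Tr.node (Tr.leaf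 [4,4,1,4,1,2,1,2,2,1]) (Tr.leaf [])) (Tr.node (Tr.leaf [1,2,0,2,1,0,1,2,2,3,1,3]) (Tr.leaf []))))))))) (Tr.node (Tr.node (Tr.node (Tr.node (Tr.node (Tr.node (Tr.node (Tr.node (Tr.leaf [0,0,0,0]) (Tr.leaf [3,1,3,1,2,0,2,1,0,1,2,2])) (Tr.node (Tr.leaf [4,1,2,1,2,2,1,4,4,1]) (Tr.leaf []))) (Tr.node (Tr.node (Tr.leaf [4,3,2,3,4,3,2,3]) (Tr.leaf [4,1,4,1,3,3,1,4,1,3,3,2,1])) (Tr.node (Tr.leaf [2,0,0,2,1,4,1,2,1,2,2,1]) (Tr.leaf [])))) (Tr.node (Tr.node (Tr.node (Tr.leaf [4,4,4,4,0,0]) (Tr.leaf [1,4,4,0,1,3,1,2,0,2,1,0])) (Tr.node (Tr.leaf [1,4,4,4,4,1,0,1,3,3,1,3]) (Tr.leaf []))) (Tr.node (Tr.node (Tr.leaf [2,0,4,0,4,4,0,2,0,2]) (Tr.leaf [1,1])) (Tr.node (Tr.leaf [0,1,0,1,4,4,1,3,1,4,3,4]) (Tr.leaf []))))) (Tr.node (Tr.node (Tr.node (Tr.node (Tr.leaf [2,2,2,2,0,0]) (Tr.leaf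 [3,4,4,1,3,1,4,0,4,1,0,1])) (Tr.node (Tr.leaf [1,3,1,0,0,1,0,1,2,2,2,2]) (Tr.leaf []))) (Tr.node (Tr.node (Tr.leaf [0,4,3,2,0,4,3,2]) (Tr.leaf [4,1,3,3,1,4,1,4,4,4,1,4,1])) (Tr.node (Tr.leaf [1,2,2,1,3,1,4,0,4,0,1,0]) (Tr.leaf [])))) (Tr.node (Tr.node (Tr.node (Tr.leaf [2,0,2,3,2,0,2,0]) (Tr.leaf [1,3,2,1,3,2,1,3,2,1,3,2])) (Tr.node (Tr.leaf [1,3,3,4,4,1,4,4,1,4,1,2]) (Tr.leaf []))) (Tr.node (Tr.node (Tr.leaf [4,4,3,2,3,4,4,3,4,0]) (Tr.leaf [])) (Tr.node (Tr.leaf [4,0,4,1,0,1,0,2,2,1,3,1]) (Tr.leaf [])))))) (Tr.node (Tr.node (Tr.node (Tr.node (Tr.node (Tr.leaf [2,3,3,4,3,3]) (Tr.leaf [4,1,0,1,2,1,4,1,3,1,2,1])) (Tr.node (Tr.leaf [2,0,0,4,1,3,1,0,0,1,0,1]) (Tr.leaf []))) (Tr.node (Tr.node (Tr.leaf [3,4,0,2,0,4,3,2]) (Tr.leaf [4,1,2,1,0,0,1,2,1,2,1,0,0])) (Tr.node (Tr.leaf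 [2,0,0,4,0,1,3,1,0,1,0,1]) (Tr.leaf [])))) (Tr.node (Tr.node (Tr.node (Tr.leaf [1,3,1,3,1,0,1,0]) (Tr.leaf [1,4,0,1,4,0,1,4,0,1,4,0])) (Tr.node (Tr.leaf [2,2,1,2,2,0,0,1,4,1,2,1]) (Tr.leaf []))) (Tr.node (Tr.node (Tr.leaf [0,4,4,3,4,3,4,4,3,2]) (Tr.leaf [])) (Tr.node (Tr.leaf [1,0,1,2,2,1,3,1,3,2,0,2]) (Tr.leaf []))))) (Tr.node (Tr.node (Tr.node (Tr.node (Tr.leaf [3,3,4,4,4,4]) (Tr.leaf [1,4,4,1,3,1,4,0,4,3,1,0])) (Tr.node (Tr.leaf [2,2,2,2,1,3,1,3,3,1,0,1]) (Tr.leaf []))) (Tr.node (Tr.node (Tr.leaf [3,1,0,0,1,0,1,0,0,1]) (Tr.leaf [1,3,3,2,1,4,1,4,1,0,0,1,4])) (Tr.node (Tr.leaf [3,2,1,0,1,4,4,1,3,1,3,2]) (Tr.leaf [])))) (Tr.node (Tr.node (Tr.node (Tr.leaf [3,4,0,4,3,4,3,4]) (Tr.leaf [2,1,0,0,1,2,1,2,1,4,0,0,1])) (Tr.node (Tr.leaf [2,1,3,3,2,2,1,4,1,2,1,2]) (Tr.leaf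 []))) (Tr.node (Tr.node (Tr.leaf [2,1,2,2,1,4,4,1,4,1]) (Tr.leaf [])) (Tr.node (Tr.leaf [3,1,3,1,2,3,2,1,0,1,4,4]) (Tr.leaf []))))))) (Tr.node (Tr.node (Tr.node (Tr.node (Tr.node (Tr.node (Tr.leaf [2,0,0,4,0,0]) (Tr.leaf [4,1,3,1,2,1,4,1,0,1,2,1])) (Tr.node (Tr.leaf [1,3,3,1,0,0,1,0,0,1,0,0]) (Tr.leaf []))) (Tr.node (Tr.node (Tr.leaf [2,0,4,3,2,3,4,0]) (Tr.leaf [4,1,3,3,2,1,4,1,4,1,3,3,1])) (Tr.node (Tr.leaf [2,0,0,4,0,1,0,1,0,1,3,1]) (Tr.leaf [])))) (Tr.node (Tr.node (Tr.node (Tr.leaf [3,3,2,2,2,2]) (Tr.leaf [4,0,1,4,0,1,4,0,1,4,0,1])) (Tr.node (Tr.leaf [2,1,0,1,3,3,1,3,1,4,3,3]) (Tr.leaf []))) (Tr.node (Tr.node (Tr.leaf [3,4,4,3,4,3,2,2,3,2]) (Tr.leaf [])) (Tr.node (Tr.leaf [3,4,0,1,0,1,4,4,1,3,1,4]) (Tr.leaf []))))) (Tr.node (Tr.node (Tr.node (Tr.node (Tr.leaf [4,4,4,4,3,3])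 (Tr.leaf [2,3,2,1,0,1,2,2,1,3,1,0])) (Tr.node (Tr.leaf [4,0,0,2,1,3,1,0,0,1,0,1]) (Tr.leaf []))) (Tr.node (Tr.node (Tr.leaf [0,1,0,0,1,3,1,0,0,1]) (Tr.leaf [3,1,2,1,0,0,1,2,1,2,1,4,3])) (Tr.node (Tr.leaf [1,4,0,4,0,1,0,1,2,2,1,3]) (Tr.leaf [])))) (Tr.node (Tr.node (Tr.node (Tr.leaf [0,4,3,4,3,4,3,4]) (Tr.leaf [3,4,4,3,4,4,3,2,2,0,4,4])) (Tr.node (Tr.leaf [4,0,0,1,4,4,1,4,1,2,1,4]) (Tr.leaf []))) (Tr.node (Tr.node (Tr.leaf [2,0,4,0,4,4,3,2,3,2]) (Tr.leaf [])) (Tr.node (Tr.leaf [2,3,2,1,0,1,4,4,3,1,3,1]) (Tr.leaf [])))))) (Tr.node (Tr.node (Tr.node (Tr.node (Tr.node (Tr.leaf [3,3,2,3,3,4]) (Tr.leaf [1,2,1,4,1,3,1,2,1,4,1,0])) (Tr.node (Tr.leaf [4,1,3,1,3,3,1,0,1,2,3,3]) (Tr.leaf []))) (Tr.node (Tr.node (Tr.leaf [3,4,3,2,0,4,0,2]) (Tr.leaf [1,4,1,4,1,3,3,1,4,1,2,3,3]))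 (Tr.node (Tr.leaf [3,4,4,4,4,1,0,1,3,1,3,1]) (Tr.leaf [])))) (Tr.node (Tr.node (Tr.node (Tr.leaf [1,0,1,0,1,3,1,3]) (Tr.leaf [2,1,3,2,1,3,2,1,3,2,1,3])) (Tr.node (Tr.leaf [4,1,4,4,1,4,1,2,1,3,3,4]) (Tr.leaf []))) (Tr.node (Tr.node (Tr.leaf [0,2,2,0,2,0,4,4,0,4]) (Tr.leaf [])) (Tr.node (Tr.leaf [1,0,2,2,1,3,1,4,0,4,1,0]) (Tr.leaf []))))) (Tr.node (Tr.node (Tr.node (Tr.node (Tr.leaf [0,0,4,3,3,2]) (Tr.leaf [1,0,1,2,2,1,3,1,4,3,4,3])) (Tr.node (Tr.leaf [1,0,1,0,0,1,3,1,2,0,0,4]) (Tr.leaf []))) (Tr.node (Tr.node (Tr.leaf [1,3,3,1,0,1,3,3,1,3]) (Tr.leaf [1,4,1,4,4,1,4,4,1,3,3,1,4])) (Tr.node (Tr.leaf [4,1,3,1,3,2,3,2,1,0,1,4]) (Tr.leaf [])))) (Tr.node (Tr.node (Tr.node (Tr.leaf [0,2,0,4,0,2,0,4]) (Tr.leaf [1,2,1,4,0,0,1,2,1,0,0,1,2])) (Tr.node (Tr.leaf [3,4,3,3,2,1,3,1,3,1,0,1])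 (Tr.leaf []))) (Tr.node (Tr.node (Tr.leaf [1,4,4,1,4,1,2,1,2,2]) (Tr.leaf [])) (Tr.node (Tr.leaf [1,0,1,0,4,4,1,3,1,4,3,4]) (Tr.leaf [])))))))) (Tr.node (Tr.node (Tr.node (Tr.node (Tr.node (Tr.node (Tr.node (Tr.leaf [0,0,2,0,0,4]) (Tr.leaf [1,2,1,4,1,3,1,2,1,4,1,0])) (Tr.node (Tr.leaf [1,0,0,1,0,0,1,3,3,1,0,0]) (Tr.leaf []))) (Tr.node (Tr.node (Tr.leaf [3,4,3,2,3,4,3,2]) (Tr.leaf [4,1,3,3,1,4,1,3,3,2,1,4,1])) (Tr.node (Tr.leaf [1,4,4,1,4,1,2,1,4,4,3,3]) (Tr.leaf [])))) (Tr.node (Tr.node (Tr.node (Tr.leaf [2,2,2,2,3,3]) (Tr.leaf [4,1,0,1,3,2,2,1,3,1,4,3])) (Tr.node (Tr.leaf [4,0,0,2,1,0,1,0,0,1,3,1]) (Tr.leaf []))) (Tr.node (Tr.node (Tr.leaf [0,4,4,0,2,0,2,2,0,4]) (Tr.leaf [3,0])) (Tr.node (Tr.leaf [4,1,3,1,4,3,4,0,1,0,1,4]) (Tr.leaf []))))) (Tr.node (Tr.node (Tr.node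 (Tr.node (Tr.leaf [2,2,0,0,2,2]) (Tr.leaf [2,1,3,1,0,2,3,2,1,0,1,2])) (Tr.node (Tr.leaf [4,4,4,4,1,3,1,3,3,1,0,1]) (Tr.leaf []))) (Tr.node (Tr.node (Tr.leaf [0,1,0,1,0,0,1,3,1,0]) (Tr.leaf [4,1,2,1,0,0,1,2,1,2,1,3,3])) (Tr.node (Tr.leaf [1,3,1,4,0,4,0,1,0,1,2,2]) (Tr.leaf [])))) (Tr.node (Tr.node (Tr.node (Tr.leaf [2,3,2,0,2,0,2,0]) (Tr.leaf [3,4,4,0,2,2,0,2,2,0,2,2])) (Tr.node (Tr.leaf [2,1,4,4,0,0,1,4,4,1,4,1]) (Tr.leaf []))) (Tr.node (Tr.node (Tr.leaf [0,4,4,3,4,0,2,2,3,2]) (Tr.leaf [])) (Tr.node (Tr.leaf [1,0,1,0,2,2,1,3,1,4,0,4]) (Tr.leaf [])))))) (Tr.node (Tr.node (Tr.node (Tr.node (Tr.node (Tr.leaf [3,4,3,3,2,3]) (Tr.leaf [1,2,1,4,1,0,1,2,1,4,1,3])) (Tr.node (Tr.leaf [1,3,1,0,0,1,0,1,2,0,0,4]) (Tr.leaf []))) (Tr.node (Tr.node (Tr.leaf [0,2,3,4,3,2,0,4]) (Tr.leaf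 [2,3,3,1,4,1,4,1,3,3,1,4,1])) (Tr.node (Tr.leaf [1,4,1,2,1,2,2,1,2,2,3,3]) (Tr.leaf [])))) (Tr.node (Tr.node (Tr.node (Tr.leaf [1,3,1,0,1,0,1,3]) (Tr.leaf [1,3,2,1,3,2,1,3,2,1,3,2])) (Tr.node (Tr.leaf [2,0,0,1,4,1,2,1,2,2,1,2]) (Tr.leaf []))) (Tr.node (Tr.node (Tr.leaf [3,4,3,2,2,0,2,0,4,4]) (Tr.leaf [])) (Tr.node (Tr.leaf [2,1,3,1,3,2,0,2,1,0,1,2]) (Tr.leaf []))))) (Tr.node (Tr.node (Tr.node (Tr.node (Tr.leaf [4,0,0,2,3,3]) (Tr.leaf [3,4,3,1,0,1,2,2,1,3,1,4])) (Tr.node (Tr.leaf [1,2,0,0,4,1,0,1,0,0,1,3]) (Tr.leaf []))) (Tr.node (Tr.node (Tr.leaf [3,3,1,3,1,3,3,1,0,1]) (Tr.leaf [2,1,2,1,0,0,1,2,2,1,2,2,1])) (Tr.node (Tr.leaf [1,0,1,4,4,1,3,1,3,2,3,2]) (Tr.leaf [])))) (Tr.node (Tr.node (Tr.node (Tr.leaf [0,4,0,2,0,4,0,2]) (Tr.leaf [0,1,2,1,2,1,4,0,0,1,2,1,0])) (Tr.node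 (Tr.leaf [3,4,3,3,2,1,0,1,3,1,3,1]) (Tr.leaf []))) (Tr.node (Tr.node (Tr.leaf [2,2,1,4,4,1,4,1,2,1]) (Tr.leaf [])) (Tr.node (Tr.leaf [1,3,1,4,3,4,1,0,1,0,4,4]) (Tr.leaf []))))))) (Tr.node (Tr.node (Tr.node (Tr.node (Tr.node (Tr.node (Tr.leaf [0,4,0,0,2,0]) (Tr.leaf [2,1,4,1,0,1,2,1,4,1,3,1])) (Tr.node (Tr.leaf [0,1,2,0,0,4,1,3,1,0,0,1]) (Tr.leaf []))) (Tr.node (Tr.node (Tr.leaf [4,3,2,3,4,0,2,0]) (Tr.leaf [2,1,0,0,4,1,2,1,0,0,1,2,1])) (Tr.node (Tr.leaf [1,3,1,3,1,3,2,3,3,4,1,0]) (Tr.leaf [])))) (Tr.node (Tr.node (Tr.node (Tr.leaf [1,0,1,3,1,3,1,0]) (Tr.leaf [0,1,4,0,1,4,0,1,4,0,1,4])) (Tr.node (Tr.leaf [4,1,2,1,2,2,1,2,2,0,0,1]) (Tr.leaf []))) (Tr.node (Tr.node (Tr.leaf [2,3,4,0,2,2,0,2,0,2]) (Tr.leaf [])) (Tr.node (Tr.leaf [2,0,2,1,0,1,2,2,1,3,1,3]) (Tr.leaf [])))))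 (Tr.node (Tr.node (Tr.node (Tr.node (Tr.leaf [4,4,3,3,4,4]) (Tr.leaf [4,3,1,0,1,4,4,1,3,1,4,0])) (Tr.node (Tr.leaf [1,3,1,0,0,1,0,1,4,0,0,2]) (Tr.leaf []))) (Tr.node (Tr.node (Tr.leaf [0,1,3,1,0,0,1,0,1,0]) (Tr.leaf [0,1,4,1,3,3,2,1,4,1,4,1,0])) (Tr.node (Tr.leaf [4,0,1,0,1,2,2,1,3,1,4,0]) (Tr.leaf [])))) (Tr.node (Tr.node (Tr.node (Tr.leaf [3,4,3,4,3,4,0,4]) (Tr.leaf [0,2,2,0,4,4,3,2,2,3,4,4])) (Tr.node (Tr.leaf [1,4,1,2,1,2,2,1,3,3,2,2]) (Tr.leaf []))) (Tr.node (Tr.node (Tr.leaf [4,0,2,3,4,4,0,4,0,4]) (Tr.leaf [])) (Tr.node (Tr.leaf [0,1,4,4,3,1,3,1,2,3,2,1]) (Tr.leaf [])))))) (Tr.node (Tr.node (Tr.node (Tr.node (Tr.node (Tr.leaf [0,0,2,2,2,2]) (Tr.leaf [0,4,1,0,1,3,4,4,1,3,1,4])) (Tr.node (Tr.leaf [1,2,2,2,2,1,3,1,0,0,1,0]) (Tr.leaf []))) (Tr.node (Tr.node (Tr.leaf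 [0,4,0,4,0,4,3,4]) (Tr.leaf [2,2,2,1,2,1,0,0,1,2,1,2,1])) (Tr.node (Tr.leaf [1,0,1,2,2,1,3,1,4,0,4,0]) (Tr.leaf [])))) (Tr.node (Tr.node (Tr.node (Tr.leaf [2,0,2,0,2,3,2,0]) (Tr.leaf [2,1,3,2,1,3,2,1,3,2,1,3])) (Tr.node (Tr.leaf [4,4,1,4,1,2,1,3,3,4,4,1]) (Tr.leaf []))) (Tr.node (Tr.node (Tr.leaf [4,4,0,2,0,4,4,3,4,0]) (Tr.leaf [])) (Tr.node (Tr.leaf [2,1,3,1,4,0,4,1,0,1,0,2]) (Tr.leaf []))))) (Tr.node (Tr.node (Tr.node (Tr.node (Tr.leaf [0,0,4,4,4,4]) (Tr.leaf [3,1,0,2,0,2,1,0,1,4,4,1])) (Tr.node (Tr.leaf [1,2,2,2,2,1,0,1,0,0,1,3]) (Tr.leaf []))) (Tr.node (Tr.node (Tr.leaf [0,2,0,2,2,0,4,0,4,4]) (Tr.leaf [4,1,3,3,1,4,1,4,1,4,4,1,4])) (Tr.node (Tr.leaf [1,3,2,3,2,1,0,1,4,4,1,3]) (Tr.leaf [])))) (Tr.node (Tr.node (Tr.node (Tr.leaf [2,3,4,3,2,3,4,3]) (Tr.leaf [1,4,0,0,1,2,1,0,0,1,2,1,2]))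 (Tr.node (Tr.leaf [4,3,3,2,0,1,3,1,0,1,0,1]) (Tr.leaf []))) (Tr.node (Tr.node (Tr.leaf [4,1,4,1,2,1,2,2,1,4]) (Tr.leaf [])) (Tr.node (Tr.leaf [2,0,2,1,0,1,2,2,3,1,3,1]) (Tr.leaf []))))))))))

/-- The witnesses of the rotations. -/
noncomputable def witT : Tr (Nat × Nat × Bool) := (Tr.node (Tr.node (Tr.node (Tr.node (Tr.node (Tr.node (Tr.node (Tr.node (Tr.node (Tr.leaf (0,0,false)) (Tr.leaf (48,4,true))) (Tr.node (Tr.leaf (24,8,false)) (Tr.leaf (0,0,false)))) (Tr.node (Tr.node (Tr.leaf (7,1,true)) (Tr.leaf (58,1,true))) (Tr.node (Tr.leaf (39,3,false)) (Tr.leaf (0,0,false))))) (Tr.node (Tr.node (Tr.node (Tr.leaf (4,1,false)) (Tr.leaf (53,5,false))) (Tr.node (Tr.leaf (31,9,false)) (Tr.leaf (0,0,false)))) (Tr.node (Tr.node (Tr.leaf (13,3,false)) (Tr.leaf (65,0,false)))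 (Tr.node (Tr.leaf (45,11,true)) (Tr.leaf (0,0,false)))))) (Tr.node (Tr.node (Tr.node (Tr.node (Tr.leaf (2,1,false)) (Tr.leaf (50,4,true))) (Tr.node (Tr.leaf (27,5,false)) (Tr.leaf (0,0,false)))) (Tr.node (Tr.node (Tr.leaf (10,6,false)) (Tr.leaf (60,6,true))) (Tr.node (Tr.leaf (45,2,false)) (Tr.leaf (0,0,false))))) (Tr.node (Tr.node (Tr.node (Tr.leaf (6,2,false)) (Tr.leaf (54,8,true))) (Tr.node (Tr.leaf (33,5,true)) (Tr.leaf (0,0,false)))) (Tr.node (Tr.node (Tr.leaf (18,2,false)) (Tr.leaf (0,0,false))) (Tr.node (Tr.leaf (47,7,false)) (Tr.leaf (0,0,false))))))) (Tr.node (Tr.node (Tr.node (Tr.node (Tr.node (Tr.leaf (1,5,false)) (Tr.leaf (49,9,false))) (Tr.node (Tr.leaf (26,4,false)) (Tr.leaf (0,0,false)))) (Tr.node (Tr.node (Tr.leaf (8,5,false)) (Tr.leaf (59,8,false)))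 (Tr.node (Tr.leaf (41,8,true)) (Tr.leaf (0,0,false))))) (Tr.node (Tr.node (Tr.node (Tr.leaf (5,2,false)) (Tr.leaf (54,7,false))) (Tr.node (Tr.leaf (33,6,false)) (Tr.leaf (0,0,false)))) (Tr.node (Tr.node (Tr.leaf (14,8,false)) (Tr.leaf (0,0,false))) (Tr.node (Tr.leaf (46,1,true)) (Tr.leaf (0,0,false)))))) (Tr.node (Tr.node (Tr.node (Tr.node (Tr.leaf (2,3,true)) (Tr.leaf (51,4,true))) (Tr.node (Tr.leaf (28,6,true)) (Tr.leaf (0,0,false)))) (Tr.node (Tr.node (Tr.leaf (11,7,false)) (Tr.leaf (63,8,true))) (Tr.node (Tr.leaf (45,0,true)) (Tr.leaf (0,0,false))))) (Tr.node (Tr.node (Tr.node (Tr.leaf (6,4,true)) (Tr.leaf (57,10,false))) (Tr.node (Tr.leaf (34,3,true)) (Tr.leaf (0,0,false)))) (Tr.node (Tr.node (Tr.leaf (24,0,false)) (Tr.leaf (0,0,false))) (Tr.node (Tr.leaf (47,8,true))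 (Tr.leaf (0,0,false)))))))) (Tr.node (Tr.node (Tr.node (Tr.node (Tr.node (Tr.node (Tr.leaf (1,1,false)) (Tr.leaf (49,3,false))) (Tr.node (Tr.leaf (25,3,false)) (Tr.leaf (0,0,false)))) (Tr.node (Tr.node (Tr.leaf (7,7,true)) (Tr.leaf (58,8,true))) (Tr.node (Tr.leaf (40,4,true)) (Tr.leaf (0,0,false))))) (Tr.node (Tr.node (Tr.node (Tr.leaf (4,3,true)) (Tr.leaf (54,1,false))) (Tr.node (Tr.leaf (32,9,false)) (Tr.leaf (0,0,false)))) (Tr.node (Tr.node (Tr.leaf (13,8,false)) (Tr.leaf (65,4,false))) (Tr.node (Tr.leaf (46,6,false)) (Tr.leaf (0,0,false)))))) (Tr.node (Tr.node (Tr.node (Tr.node (Tr.leaf (2,5,false)) (Tr.leaf (51,7,false))) (Tr.node (Tr.leaf (28,4,false)) (Tr.leaf (0,0,false)))) (Tr.node (Tr.node (Tr.leaf (11,2,false)) (Tr.leaf (61,5,true))) (Tr.node (Tr.leaf (45,7,false))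 (Tr.leaf (0,0,false))))) (Tr.node (Tr.node (Tr.node (Tr.leaf (6,6,false)) (Tr.leaf (55,2,true))) (Tr.node (Tr.leaf (34,10,false)) (Tr.leaf (0,0,false)))) (Tr.node (Tr.node (Tr.leaf (21,0,false)) (Tr.leaf (0,0,false))) (Tr.node (Tr.leaf (47,0,true)) (Tr.leaf (0,0,false))))))) (Tr.node (Tr.node (Tr.node (Tr.node (Tr.node (Tr.leaf (1,3,true)) (Tr.leaf (49,2,true))) (Tr.node (Tr.leaf (26,0,true)) (Tr.leaf (0,0,false)))) (Tr.node (Tr.node (Tr.leaf (8,4,true)) (Tr.leaf (59,5,true))) (Tr.node (Tr.leaf (44,2,true)) (Tr.leaf (0,0,false))))) (Tr.node (Tr.node (Tr.node (Tr.leaf (5,6,false)) (Tr.leaf (54,2,true))) (Tr.node (Tr.leaf (33,0,true)) (Tr.leaf (0,0,false)))) (Tr.node (Tr.node (Tr.leaf (16,1,false)) (Tr.leaf (0,0,false))) (Tr.node (Tr.leaf (46,11,true)) (Tr.leaf (0,0,false))))))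 (Tr.node (Tr.node (Tr.node (Tr.node (Tr.leaf (3,0,true)) (Tr.leaf (52,10,false))) (Tr.node (Tr.leaf (30,5,false)) (Tr.leaf (0,0,false)))) (Tr.node (Tr.node (Tr.leaf (11,5,true)) (Tr.leaf (64,10,false))) (Tr.node (Tr.leaf (45,5,true)) (Tr.leaf (0,0,false))))) (Tr.node (Tr.node (Tr.node (Tr.leaf (7,3,false)) (Tr.leaf (58,7,false))) (Tr.node (Tr.leaf (35,10,true)) (Tr.leaf (0,0,false)))) (Tr.node (Tr.node (Tr.leaf (24,4,false)) (Tr.leaf (0,0,false))) (Tr.node (Tr.leaf (48,9,false)) (Tr.leaf (0,0,false))))))))) (Tr.node (Tr.node (Tr.node (Tr.node (Tr.node (Tr.node (Tr.node (Tr.leaf (0,1,true)) (Tr.leaf (49,0,false))) (Tr.node (Tr.leaf (24,5,true)) (Tr.leaf (0,0,false)))) (Tr.node (Tr.node (Tr.leaf (7,3,true)) (Tr.leaf (58,3,true))) (Tr.node (Tr.leaf (40,1,false)) (Tr.leaf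 (0,0,false))))) (Tr.node (Tr.node (Tr.node (Tr.leaf (4,5,false)) (Tr.leaf (53,6,true))) (Tr.node (Tr.leaf (32,2,false)) (Tr.leaf (0,0,false)))) (Tr.node (Tr.node (Tr.leaf (13,5,false)) (Tr.leaf (65,2,false))) (Tr.node (Tr.leaf (46,1,false)) (Tr.leaf (0,0,false)))))) (Tr.node (Tr.node (Tr.node (Tr.node (Tr.leaf (2,3,false)) (Tr.leaf (50,10,true))) (Tr.node (Tr.leaf (27,11,false)) (Tr.leaf (0,0,false)))) (Tr.node (Tr.node (Tr.leaf (11,0,false)) (Tr.leaf (61,8,false))) (Tr.node (Tr.leaf (45,4,false)) (Tr.leaf (0,0,false))))) (Tr.node (Tr.node (Tr.node (Tr.leaf (6,4,false)) (Tr.leaf (55,0,false))) (Tr.node (Tr.leaf (34,2,false)) (Tr.leaf (0,0,false)))) (Tr.node (Tr.node (Tr.leaf (19,4,true)) (Tr.leaf (0,0,false))) (Tr.node (Tr.leaf (47,9,false)) (Tr.leaf (0,0,false)))))))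 (Tr.node (Tr.node (Tr.node (Tr.node (Tr.node (Tr.leaf (1,1,true)) (Tr.leaf (49,11,false))) (Tr.node (Tr.leaf (26,8,false)) (Tr.leaf (0,0,false)))) (Tr.node (Tr.node (Tr.leaf (8,1,true)) (Tr.leaf (59,10,false))) (Tr.node (Tr.leaf (42,8,true)) (Tr.leaf (0,0,false))))) (Tr.node (Tr.node (Tr.node (Tr.leaf (5,4,false)) (Tr.leaf (54,11,false))) (Tr.node (Tr.leaf (33,10,false)) (Tr.leaf (0,0,false)))) (Tr.node (Tr.node (Tr.leaf (15,0,false)) (Tr.leaf (0,0,false))) (Tr.node (Tr.leaf (46,4,true)) (Tr.leaf (0,0,false)))))) (Tr.node (Tr.node (Tr.node (Tr.node (Tr.leaf (3,2,false)) (Tr.leaf (52,7,false))) (Tr.node (Tr.leaf (30,0,false)) (Tr.leaf (0,0,false)))) (Tr.node (Tr.node (Tr.leaf (11,0,true)) (Tr.leaf (64,8,false))) (Tr.node (Tr.leaf (45,2,true)) (Tr.leaf (0,0,false)))))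 (Tr.node (Tr.node (Tr.node (Tr.leaf (7,1,false)) (Tr.leaf (58,4,false))) (Tr.node (Tr.leaf (35,4,false)) (Tr.leaf (0,0,false)))) (Tr.node (Tr.node (Tr.leaf (24,2,false)) (Tr.leaf (0,0,false))) (Tr.node (Tr.leaf (48,1,false)) (Tr.leaf (0,0,false)))))))) (Tr.node (Tr.node (Tr.node (Tr.node (Tr.node (Tr.node (Tr.leaf (1,3,false)) (Tr.leaf (49,5,false))) (Tr.node (Tr.leaf (25,9,false)) (Tr.leaf (0,0,false)))) (Tr.node (Tr.node (Tr.leaf (8,2,false)) (Tr.leaf (58,10,true))) (Tr.node (Tr.leaf (41,1,true)) (Tr.leaf (0,0,false))))) (Tr.node (Tr.node (Tr.node (Tr.leaf (5,0,false)) (Tr.leaf (54,3,false))) (Tr.node (Tr.leaf (33,2,false)) (Tr.leaf (0,0,false)))) (Tr.node (Tr.node (Tr.leaf (13,6,true)) (Tr.leaf (0,0,false))) (Tr.node (Tr.leaf (46,11,false)) (Tr.leaf (0,0,false))))))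 (Tr.node (Tr.node (Tr.node (Tr.node (Tr.leaf (2,1,true)) (Tr.leaf (51,9,false))) (Tr.node (Tr.leaf (28,8,false)) (Tr.leaf (0,0,false)))) (Tr.node (Tr.node (Tr.leaf (11,5,false)) (Tr.leaf (62,2,true))) (Tr.node (Tr.leaf (45,9,false)) (Tr.leaf (0,0,false))))) (Tr.node (Tr.node (Tr.node (Tr.leaf (6,2,true)) (Tr.leaf (56,5,false))) (Tr.node (Tr.leaf (34,1,true)) (Tr.leaf (0,0,false)))) (Tr.node (Tr.node (Tr.leaf (23,5,false)) (Tr.leaf (0,0,false))) (Tr.node (Tr.leaf (47,4,true)) (Tr.leaf (0,0,false))))))) (Tr.node (Tr.node (Tr.node (Tr.node (Tr.node (Tr.leaf (1,5,true)) (Tr.leaf (50,8,false))) (Tr.node (Tr.leaf (27,3,false)) (Tr.leaf (0,0,false)))) (Tr.node (Tr.node (Tr.leaf (9,4,false)) (Tr.leaf (59,7,true))) (Tr.node (Tr.leaf (45,0,false)) (Tr.leaf (0,0,false))))) (Tr.node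 (Tr.node (Tr.node (Tr.leaf (6,0,false)) (Tr.leaf (54,5,true))) (Tr.node (Tr.leaf (33,2,true)) (Tr.leaf (0,0,false)))) (Tr.node (Tr.node (Tr.leaf (16,8,false)) (Tr.leaf (0,0,false))) (Tr.node (Tr.leaf (47,2,false)) (Tr.leaf (0,0,false)))))) (Tr.node (Tr.node (Tr.node (Tr.node (Tr.leaf (3,3,true)) (Tr.leaf (52,9,true))) (Tr.node (Tr.leaf (31,2,false)) (Tr.leaf (0,0,false)))) (Tr.node (Tr.node (Tr.leaf (12,8,false)) (Tr.leaf (64,4,true))) (Tr.node (Tr.leaf (45,8,true)) (Tr.leaf (0,0,false))))) (Tr.node (Tr.node (Tr.node (Tr.leaf (7,6,false)) (Tr.leaf (58,10,false))) (Tr.node (Tr.leaf (37,1,false)) (Tr.leaf (0,0,false)))) (Tr.node (Tr.node (Tr.leaf (24,6,false)) (Tr.leaf (0,0,false))) (Tr.node (Tr.leaf (48,0,true)) (Tr.leaf (0,0,false)))))))))) (Tr.node (Tr.node (Tr.node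 (Tr.node (Tr.node (Tr.node (Tr.node (Tr.node (Tr.leaf (0,1,false)) (Tr.leaf (48,9,true))) (Tr.node (Tr.leaf (24,9,false)) (Tr.leaf (0,0,false)))) (Tr.node (Tr.node (Tr.leaf (7,2,true)) (Tr.leaf (58,2,true))) (Tr.node (Tr.leaf (39,11,false)) (Tr.leaf (0,0,false))))) (Tr.node (Tr.node (Tr.node (Tr.leaf (4,2,false)) (Tr.leaf (53,9,false))) (Tr.node (Tr.leaf (31,2,true)) (Tr.leaf (0,0,false)))) (Tr.node (Tr.node (Tr.leaf (13,4,false)) (Tr.leaf (65,1,false))) (Tr.node (Tr.leaf (46,0,false)) (Tr.leaf (0,0,false)))))) (Tr.node (Tr.node (Tr.node (Tr.node (Tr.leaf (2,2,false)) (Tr.leaf (50,7,true))) (Tr.node (Tr.leaf (27,9,false)) (Tr.leaf (0,0,false)))) (Tr.node (Tr.node (Tr.leaf (10,1,true)) (Tr.leaf (60,9,true))) (Tr.node (Tr.leaf (45,3,false)) (Tr.leaf (0,0,false))))) (Tr.node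 (Tr.node (Tr.node (Tr.leaf (6,3,false)) (Tr.leaf (54,10,true))) (Tr.node (Tr.leaf (33,9,true)) (Tr.leaf (0,0,false)))) (Tr.node (Tr.node (Tr.leaf (19,2,true)) (Tr.leaf (0,0,false))) (Tr.node (Tr.leaf (47,8,false)) (Tr.leaf (0,0,false))))))) (Tr.node (Tr.node (Tr.node (Tr.node (Tr.node (Tr.leaf (1,0,true)) (Tr.leaf (49,10,false))) (Tr.node (Tr.leaf (26,5,false)) (Tr.leaf (0,0,false)))) (Tr.node (Tr.node (Tr.leaf (8,6,false)) (Tr.leaf (59,9,false))) (Tr.node (Tr.leaf (42,11,false)) (Tr.leaf (0,0,false))))) (Tr.node (Tr.node (Tr.node (Tr.leaf (5,3,false)) (Tr.leaf (54,10,false))) (Tr.node (Tr.leaf (33,7,false)) (Tr.leaf (0,0,false)))) (Tr.node (Tr.node (Tr.leaf (14,4,true)) (Tr.leaf (0,0,false))) (Tr.node (Tr.leaf (46,3,true)) (Tr.leaf (0,0,false)))))) (Tr.node (Tr.node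 (Tr.node (Tr.node (Tr.leaf (2,4,true)) (Tr.leaf (51,7,true))) (Tr.node (Tr.leaf (29,3,true)) (Tr.leaf (0,0,false)))) (Tr.node (Tr.node (Tr.leaf (11,8,false)) (Tr.leaf (63,10,true))) (Tr.node (Tr.leaf (45,1,true)) (Tr.leaf (0,0,false))))) (Tr.node (Tr.node (Tr.node (Tr.leaf (6,7,true)) (Tr.leaf (58,3,false))) (Tr.node (Tr.leaf (34,8,true)) (Tr.leaf (0,0,false)))) (Tr.node (Tr.node (Tr.leaf (24,1,false)) (Tr.leaf (0,0,false))) (Tr.node (Tr.leaf (47,9,true)) (Tr.leaf (0,0,false)))))))) (Tr.node (Tr.node (Tr.node (Tr.node (Tr.node (Tr.node (Tr.leaf (1,2,false)) (Tr.leaf (49,4,false))) (Tr.node (Tr.leaf (25,8,false)) (Tr.leaf (0,0,false)))) (Tr.node (Tr.node (Tr.leaf (8,1,false)) (Tr.leaf (58,9,true))) (Tr.node (Tr.leaf (41,11,false)) (Tr.leaf (0,0,false))))) (Tr.node (Tr.node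 (Tr.node (Tr.leaf (4,4,true)) (Tr.leaf (54,2,false))) (Tr.node (Tr.leaf (32,6,true)) (Tr.leaf (0,0,false)))) (Tr.node (Tr.node (Tr.leaf (13,4,true)) (Tr.leaf (0,0,false))) (Tr.node (Tr.leaf (46,10,false)) (Tr.leaf (0,0,false)))))) (Tr.node (Tr.node (Tr.node (Tr.node (Tr.leaf (2,0,true)) (Tr.leaf (51,8,false))) (Tr.node (Tr.leaf (28,5,false)) (Tr.leaf (0,0,false)))) (Tr.node (Tr.node (Tr.leaf (11,3,false)) (Tr.leaf (62,9,false))) (Tr.node (Tr.leaf (45,8,false)) (Tr.leaf (0,0,false))))) (Tr.node (Tr.node (Tr.node (Tr.leaf (6,1,true)) (Tr.leaf (55,5,true))) (Tr.node (Tr.leaf (34,11,false)) (Tr.leaf (0,0,false)))) (Tr.node (Tr.node (Tr.leaf (22,3,true)) (Tr.leaf (0,0,false))) (Tr.node (Tr.leaf (47,1,true)) (Tr.leaf (0,0,false))))))) (Tr.node (Tr.node (Tr.node (Tr.node (Tr.node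 (Tr.leaf (1,4,true)) (Tr.leaf (49,6,true))) (Tr.node (Tr.leaf (26,6,true)) (Tr.leaf (0,0,false)))) (Tr.node (Tr.node (Tr.leaf (8,5,true)) (Tr.leaf (59,6,true))) (Tr.node (Tr.leaf (44,11,true)) (Tr.leaf (0,0,false))))) (Tr.node (Tr.node (Tr.node (Tr.leaf (5,7,false)) (Tr.leaf (54,3,true))) (Tr.node (Tr.leaf (33,1,true)) (Tr.leaf (0,0,false)))) (Tr.node (Tr.node (Tr.leaf (16,7,false)) (Tr.leaf (0,0,false))) (Tr.node (Tr.leaf (47,1,false)) (Tr.leaf (0,0,false)))))) (Tr.node (Tr.node (Tr.node (Tr.node (Tr.leaf (3,1,true)) (Tr.leaf (52,11,false))) (Tr.node (Tr.leaf (30,9,false)) (Tr.leaf (0,0,false)))) (Tr.node (Tr.node (Tr.leaf (11,7,true)) (Tr.leaf (64,2,true))) (Tr.node (Tr.leaf (45,7,true)) (Tr.leaf (0,0,false))))) (Tr.node (Tr.node (Tr.node (Tr.leaf (7,4,false)) (Tr.leaf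 (58,9,false))) (Tr.node (Tr.leaf (36,8,true)) (Tr.leaf (0,0,false)))) (Tr.node (Tr.node (Tr.leaf (24,5,false)) (Tr.leaf (0,0,false))) (Tr.node (Tr.leaf (48,11,false)) (Tr.leaf (0,0,false))))))))) (Tr.node (Tr.node (Tr.node (Tr.node (Tr.node (Tr.node (Tr.node (Tr.leaf (1,0,false)) (Tr.leaf (49,1,false))) (Tr.node (Tr.leaf (25,2,false)) (Tr.leaf (0,0,false)))) (Tr.node (Tr.node (Tr.leaf (7,5,true)) (Tr.leaf (58,4,true))) (Tr.node (Tr.leaf (40,0,true)) (Tr.leaf (0,0,false))))) (Tr.node (Tr.node (Tr.node (Tr.leaf (4,0,true)) (Tr.leaf (53,7,true))) (Tr.node (Tr.leaf (32,5,false)) (Tr.leaf (0,0,false)))) (Tr.node (Tr.node (Tr.leaf (13,7,false)) (Tr.leaf (65,3,false))) (Tr.node (Tr.leaf (46,5,false)) (Tr.leaf (0,0,false)))))) (Tr.node (Tr.node (Tr.node (Tr.node (Tr.leaf (2,4,false))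 (Tr.leaf (51,3,false))) (Tr.node (Tr.leaf (27,3,true)) (Tr.leaf (0,0,false)))) (Tr.node (Tr.node (Tr.leaf (11,1,false)) (Tr.leaf (61,9,false))) (Tr.node (Tr.leaf (45,6,false)) (Tr.leaf (0,0,false))))) (Tr.node (Tr.node (Tr.node (Tr.leaf (6,5,false)) (Tr.leaf (55,9,false))) (Tr.node (Tr.leaf (34,8,false)) (Tr.leaf (0,0,false)))) (Tr.node (Tr.node (Tr.leaf (20,5,false)) (Tr.leaf (0,0,false))) (Tr.node (Tr.leaf (47,11,false)) (Tr.leaf (0,0,false))))))) (Tr.node (Tr.node (Tr.node (Tr.node (Tr.node (Tr.leaf (1,2,true)) (Tr.leaf (49,0,true))) (Tr.node (Tr.leaf (26,9,false)) (Tr.leaf (0,0,false)))) (Tr.node (Tr.node (Tr.leaf (8,3,true)) (Tr.leaf (59,3,true))) (Tr.node (Tr.leaf (43,0,true)) (Tr.leaf (0,0,false))))) (Tr.node (Tr.node (Tr.node (Tr.leaf (5,5,false)) (Tr.leaf (54,1,true)))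 (Tr.node (Tr.leaf (33,11,false)) (Tr.leaf (0,0,false)))) (Tr.node (Tr.node (Tr.leaf (15,7,true)) (Tr.leaf (0,0,false))) (Tr.node (Tr.leaf (46,7,true)) (Tr.leaf (0,0,false)))))) (Tr.node (Tr.node (Tr.node (Tr.node (Tr.leaf (3,5,false)) (Tr.leaf (52,8,false))) (Tr.node (Tr.leaf (30,4,false)) (Tr.leaf (0,0,false)))) (Tr.node (Tr.node (Tr.leaf (11,3,true)) (Tr.leaf (64,9,false))) (Tr.node (Tr.leaf (45,3,true)) (Tr.leaf (0,0,false))))) (Tr.node (Tr.node (Tr.node (Tr.leaf (7,2,false)) (Tr.leaf (58,6,false))) (Tr.node (Tr.leaf (35,8,true)) (Tr.leaf (0,0,false)))) (Tr.node (Tr.node (Tr.leaf (24,3,false)) (Tr.leaf (0,0,false))) (Tr.node (Tr.leaf (48,5,false)) (Tr.leaf (0,0,false)))))))) (Tr.node (Tr.node (Tr.node (Tr.node (Tr.node (Tr.node (Tr.leaf (1,4,false)) (Tr.leaf (49,8,false)))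 (Tr.node (Tr.leaf (26,3,false)) (Tr.leaf (0,0,false)))) (Tr.node (Tr.node (Tr.leaf (8,3,false)) (Tr.leaf (59,5,false))) (Tr.node (Tr.leaf (41,3,true)) (Tr.leaf (0,0,false))))) (Tr.node (Tr.node (Tr.node (Tr.leaf (5,1,false)) (Tr.leaf (54,6,false))) (Tr.node (Tr.leaf (33,3,false)) (Tr.leaf (0,0,false)))) (Tr.node (Tr.node (Tr.leaf (14,4,false)) (Tr.leaf (0,0,false))) (Tr.node (Tr.leaf (46,0,true)) (Tr.leaf (0,0,false)))))) (Tr.node (Tr.node (Tr.node (Tr.node (Tr.leaf (2,2,true)) (Tr.leaf (51,3,true))) (Tr.node (Tr.leaf (28,9,false)) (Tr.leaf (0,0,false)))) (Tr.node (Tr.node (Tr.leaf (11,6,false)) (Tr.leaf (63,7,true))) (Tr.node (Tr.leaf (45,11,false)) (Tr.leaf (0,0,false))))) (Tr.node (Tr.node (Tr.node (Tr.leaf (6,3,true)) (Tr.leaf (57,0,false))) (Tr.node (Tr.leaf (34,2,true))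 (Tr.leaf (0,0,false)))) (Tr.node (Tr.node (Tr.leaf (23,9,false)) (Tr.leaf (0,0,false))) (Tr.node (Tr.leaf (47,5,true)) (Tr.leaf (0,0,false))))))) (Tr.node (Tr.node (Tr.node (Tr.node (Tr.node (Tr.leaf (2,0,false)) (Tr.leaf (50,2,true))) (Tr.node (Tr.leaf (27,4,false)) (Tr.leaf (0,0,false)))) (Tr.node (Tr.node (Tr.leaf (9,1,true)) (Tr.leaf (60,7,false))) (Tr.node (Tr.leaf (45,1,false)) (Tr.leaf (0,0,false))))) (Tr.node (Tr.node (Tr.node (Tr.leaf (6,1,false)) (Tr.leaf (54,6,true))) (Tr.node (Tr.leaf (33,3,true)) (Tr.leaf (0,0,false)))) (Tr.node (Tr.node (Tr.leaf (17,8,false)) (Tr.leaf (0,0,false))) (Tr.node (Tr.leaf (47,4,false)) (Tr.leaf (0,0,false)))))) (Tr.node (Tr.node (Tr.node (Tr.node (Tr.leaf (4,0,false)) (Tr.leaf (52,11,true))) (Tr.node (Tr.leaf (31,4,false)) (Tr.leaf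 (0,0,false)))) (Tr.node (Tr.node (Tr.leaf (13,0,false)) (Tr.leaf (64,9,true))) (Tr.node (Tr.leaf (45,10,true)) (Tr.leaf (0,0,false))))) (Tr.node (Tr.node (Tr.node (Tr.leaf (7,0,true)) (Tr.leaf (58,11,false))) (Tr.node (Tr.leaf (38,9,true)) (Tr.leaf (0,0,false)))) (Tr.node (Tr.node (Tr.leaf (24,7,false)) (Tr.leaf (0,0,false))) (Tr.node (Tr.leaf (48,1,true)) (Tr.leaf (0,0,false)))))))))))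

/-- The subgroup rotations. -/
noncomputable def srotT : Tr (List Nat × Nat × List Nat) := (Tr.node (Tr.leaf ([4,0,2],3,[])) (Tr.leaf ([1,0,1,2,1,4],3,[3])))

/-- The certificate. -/
noncomputable def cert : Cert :=
  mkCert 5 1363 6594 3 357 359 5 31 238 35 175 224 34359738367 562949953421311 13 11 8191 2047 24 22 7 ctree.get rotT.get srotT.get

/-- The relators. -/
def rels : List (List Nat) :=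
  [[0,0,0,0],
   [0,0,2,0,0,4],
   [0,0,2,2,2,2],
   [0,0,2,3,3,4],
   [0,0,4,4,4,4],
   [0,1,0,1,3,1,3,1],
   [0,2,0,2,0,2,3,2],
   [0,2,0,4,0,2,0,4],
   [0,2,0,4,3,2,3,4],
   [0,2,3,2,3,2,3,2],
   [0,2,3,4,0,2,3,4],
   [0,0,1,0,1,0,0,1,3,1],
   [0,0,1,0,1,3,3,1,3,1],
   [0,2,0,2,2,0,4,0,4,4],
   [0,2,0,2,2,3,4,0,2,2],
   [0,2,0,2,2,3,4,3,4,4],
   [0,2,0,4,4,0,4,0,2,2],
   [0,2,0,4,4,3,4,0,4,4],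
   [0,2,2,0,2,3,4,4,3,4],
   [0,2,2,0,4,0,2,2,3,2],
   [0,2,2,3,2,0,4,4,3,4],
   [0,2,2,3,2,3,2,2,3,4],
   [0,2,2,3,2,3,4,4,0,4],
   [0,2,3,4,4,0,4,0,4,4],
   [1,2,1,2,2,1,4,4,1,4],
   [0,0,1,0,0,1,0,0,1,3,3,1],
   [0,0,1,0,1,2,0,0,4,1,3,1],
   [0,0,1,0,1,2,2,2,2,1,3,1],
   [0,0,1,0,1,4,0,0,2,1,3,1],
   [0,0,1,0,1,4,4,4,4,1,3,1],
   [0,0,1,3,1,2,0,0,4,1,0,1],
   [0,0,1,3,1,2,2,2,2,1,0,1],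
   [0,0,1,3,1,4,0,0,2,1,0,1],
   [0,0,1,4,1,2,1,2,2,1,2,2],
   [0,0,1,4,4,1,4,1,2,1,4,4],
   [0,0,2,0,1,0,1,0,1,3,1,4],
   [0,0,2,0,1,3,1,0,1,0,1,4],
   [0,0,2,1,0,1,3,1,3,1,3,4],
   [0,0,2,1,3,1,3,1,0,1,3,4],
   [0,0,2,1,4,1,2,1,2,2,1,2],
   [0,0,2,2,1,4,1,2,1,2,2,1],
   [0,0,4,0,1,0,1,0,1,3,1,2],
   [0,0,4,0,1,3,1,0,1,0,1,2],
   [0,0,4,4,1,4,4,1,4,1,2,1],
   [0,1,0,1,0,1,3,1,2,2,2,2],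
   [0,1,0,1,2,2,1,3,1,4,0,4],
   [0,1,0,1,4,4,1,3,1,4,3,4],
   [0,1,0,2,2,1,3,1,4,0,4,1],
   [0,1,0,4,4,1,3,1,4,3,4,1],
   [0,1,2,1,4,1,3,1,2,1,4,1],
   [0,1,2,2,0,1,3,1,2,3,2,1],
   [0,1,2,2,1,3,1,0,2,3,2,1],
   [0,1,2,2,1,3,1,4,3,4,3,1],
   [0,1,3,1,2,0,2,1,0,1,4,4],
   [0,1,4,0,1,4,0,1,4,0,1,4],
   [0,2,2,0,2,2,0,2,2,3,4,4],
   [0,2,2,0,4,4,0,4,4,3,4,4],
   [0,2,2,0,4,4,3,2,2,3,4,4],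
   [0,0,1,2,1,0,0,1,2,1,2,1,4],
   [0,0,1,2,1,2,1,0,0,4,1,2,1],
   [0,0,1,2,1,2,1,2,2,2,1,2,1],
   [0,0,1,2,1,2,1,3,3,4,1,2,1],
   [0,0,1,2,1,2,1,4,3,3,1,2,1],
   [0,0,1,2,1,3,3,1,2,1,2,1,4],
   [0,0,1,2,2,1,2,2,1,2,1,2,1]]

/-- The words of the subgroup. -/
def subs : List (List Nat) :=
  [[4,0,2,3],
   [1,0,1,2,1,4,3,3]]

end Cfsg.Agent.Lib.CosetCert.D.Ru.Lv2.Tab
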